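import Groth.Agent.LenHom.Syzygy
import Groth.Agent.DualCx.Regular
import Groth.Agent.DualCx.Duality
import Groth.Agent.RegLoc.QuasiRegular
import Mathlib

/-!
# The length of `Hom(I, R/J)` over a two-dimensional regular local ring
-/

set_option autoImplicit false
set_option maxHeartbeats 1000000

universe u

open CategoryTheory

namespace Groth.Agent.LenHom

open DualCx

attribute [local instance] HasDerivedCategory.standard

variable {R : Type u} [CommRing R]

theorem length_exact₄ {A B C D : Type*} [AddCommGroup A] [Module R A] [AddCommGroup B] [Module R B]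
    [AddCommGroup C] [Module R C] [AddCommGroup D] [Module R D] (f : A →ₗ[R] B) (g : B →ₗ[R] C) (h : C →ₗ[R] D)
    (hf : Function.Injective f) (hfg : Function.Exact f g) (hgh : Function.Exact g h) (hh : Function.Surjective h) :
    Module.length R A + Module.length R C = Module.length R B + Module.length R D := by
  rw [Module.length_eq_add_of_exact f g.rangeRestrict hf g.surjective_rangeRestrict
      (fun x => by rw [← hfg x]; exact Subtype.ext_iff),
    Module.length_eq_add_of_exact (LinearMap.range g).subtype h (Submodule.injective_subtype _) hh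
      (fun x => (hgh x).trans (by simp))]
  abel

variable [IsLocalRing R] [IsNoetherianRing R] {ω : Dual.D R}

/-- `D Q / J • D Q ≅ D (0 :_Q J)`, on lengths. -/
theorem length_T_quot_smul (hω : Dual.IsDualizing R ω) (hn : Dual.IsNormalized R ω) (Q : Type u) [AddCommGroup Q]
    [Module R Q] (hQ : IsFiniteLength R Q) {l : ℕ} (g : Fin l → R) :
    Module.length R (T ω Q 0 ⧸ (Ideal.span (Set.range g) • (⊤ : Submodule R (T ω Q 0)))) =
      Module.length R (LinearMap.ker (LinearMap.pi fun c => g c • LinearMap.id : Q →ₗ[R] (Fin l → Q))) := by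
  classical
  obtain ⟨_, _⟩ := isFiniteLength_iff_isNoetherian_isArtinian.1 hQ
  set φ : Q →ₗ[R] (Fin l → Q) := LinearMap.pi fun c => g c • LinearMap.id with hφ
  let ρ : Q →ₗ[R] LinearMap.range φ := φ.rangeRestrict
  have hρ : φ = (LinearMap.range φ).subtype.comp ρ := (LinearMap.subtype_comp_codRestrict φ _ _).symm
  have hex : SES (LinearMap.ker φ).subtype ρ :=
    ⟨Submodule.subtype_injective _, fun x => by
      rw [← LinearMap.mem_ker, LinearMap.ker_rangeRestrict]; simp, φ.surjective_rangeRestrict⟩
  have hfl : ∀ {M : Type u} [AddCommGroup M] [Module R M] [IsNoetherian R M] [IsArtinian R M], IsFiniteLength R M :=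
    isFiniteLength_iff_isNoetherian_isArtinian.2 ⟨inferInstance, inferInstance⟩
  have hrng : Ideal.span (Set.range g) • (⊤ : Submodule R (T ω Q 0)) = LinearMap.range (pre ω 0 φ) := by
    have hsum : φ = ∑ c, g c • LinearMap.single R (fun _ : Fin l => Q) c := by
      refine LinearMap.ext fun x => funext fun b => ?_
      simp [φ, LinearMap.sum_apply, Finset.sum_apply, Pi.single_apply, apply_ite]
    refine le_antisymm (Submodule.smul_le.2 fun r hr x _ => ?_) ?_
    · induction hr using Submodule.span_induction with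
      | mem r hr =>
        obtain ⟨c, rfl⟩ := hr
        refine ⟨pre ω 0 (LinearMap.proj c) x, ?_⟩
        rw [← pre_comp, show (LinearMap.proj c).comp φ = g c • LinearMap.id from LinearMap.ext fun _ => rfl,
          pre_smul_id]
      | zero => simp
      | add a b _ _ ha hb => rw [add_smul]; exact add_mem ha hb
      | smul a b _ hb => rw [smul_assoc]; exact Submodule.smul_mem _ _ hb
    · rintro _ ⟨x, rfl⟩
      rw [hsum, pre_sum]
      refine sum_mem fun c _ => ?_
      rw [pre_smul]
      exact Submodule.smul_mem_smul (Ideal.subset_span ⟨c, rfl⟩) trivial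
  clear_value φ
  have hsurj : Function.Surjective (pre ω 0 (LinearMap.ker φ).subtype) := fun x =>
    hex.exact_left (show (0 : ℤ) + 1 = 1 by rfl) x
      (@Subsingleton.elim _ (subsingleton_T_finiteLength hω hn hfl (by lia)) _ _)
  have hsurj2 : Function.Surjective (pre ω 0 (LinearMap.range φ).subtype) := fun x =>
    (ses_quot (LinearMap.range φ)).exact_left (show (0 : ℤ) + 1 = 1 by rfl) x
      (@Subsingleton.elim _ (subsingleton_T_finiteLength hω hn hfl (by lia)) _ _)
  have hker : LinearMap.ker (pre ω 0 (LinearMap.ker φ).subtype) = LinearMap.range (pre ω 0 φ) := by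
    refine le_antisymm (fun x hx => ?_) ?_
    · obtain ⟨y, rfl⟩ := hex.exact_mid x hx
      obtain ⟨z, rfl⟩ := hsurj2 y
      exact ⟨z, (congrArg (fun t => pre ω 0 t z) hρ).trans (pre_comp ρ (LinearMap.range φ).subtype z)⟩
    · rintro _ ⟨z, rfl⟩
      rw [LinearMap.mem_ker]
      rw [(congrArg (fun t => pre ω 0 t z) hρ).trans (pre_comp ρ (LinearMap.range φ).subtype z)]
      exact hex.pre_f_g _
  rw [hrng, ← hker, ((pre ω 0 (LinearMap.ker φ).subtype).quotKerEquivOfSurjective hsurj).length_eq,
    length_T hω hn hfl]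

/-- `T ω M i` for free `M` is the dual. -/
theorem exists_dualEquiv (ω : Dual.D R) {i : ℤ} (e : T ω R i ≃ₗ[R] R) (r : ℕ) :
    ∃ Ψ : T ω (Fin r → R) i ≃ₗ[R] ((Fin r → R) →ₗ[R] R),
      ∀ x v, Ψ x v = e (pre ω i (LinearMap.toSpanSingleton R _ v) x) := by
  classical
  let f : T ω (Fin r → R) i →ₗ[R] ((Fin r → R) →ₗ[R] R) :=
    LinearMap.mk₂ R (fun x v => e (pre ω i (LinearMap.toSpanSingleton R _ v) x))
      (fun x y v => by simp) (fun a x v => by simp)
      (fun x v w => by
        rw [show LinearMap.toSpanSingleton R (Fin r → R) (v + w) =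
          LinearMap.toSpanSingleton R _ v + LinearMap.toSpanSingleton R _ w from LinearMap.ext_ring (by simp),
          pre_add, map_add])
      (fun a x v => by
        rw [show LinearMap.toSpanSingleton R (Fin r → R) (a • v) = a • LinearMap.toSpanSingleton R _ v from
          LinearMap.ext_ring (by simp), pre_smul, map_smul])
  have hs : ∀ c, LinearMap.toSpanSingleton R (Fin r → R) (Pi.single c 1) = LinearMap.single R (fun _ => R) c :=
    fun c => LinearMap.ext_ring (by simp)
  have hid : (LinearMap.id : (Fin r → R) →ₗ[R] (Fin r → R)) =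
      ∑ c, (LinearMap.single R (fun _ => R) c).comp (LinearMap.proj c) := by
    refine LinearMap.ext fun x => funext fun b => ?_
    simp [LinearMap.sum_apply, Finset.sum_apply, Pi.single_apply]
  refine ⟨LinearEquiv.ofBijective f ⟨?_, ?_⟩, fun x v => rfl⟩
  · refine (injective_iff_map_eq_zero _).2 fun x hx => ?_
    rw [← pre_id x, hid, pre_sum]
    refine Finset.sum_eq_zero fun c _ => ?_
    have := LinearMap.congr_fun hx (Pi.single c 1)
    simp only [f, LinearMap.mk₂_apply, LinearMap.zero_apply, LinearEquiv.map_eq_zero_iff, hs] at this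
    rw [pre_comp, this, map_zero]
  · intro φ
    refine ⟨∑ c, pre ω i (LinearMap.proj c) (e.symm (φ (Pi.single c 1))), ?_⟩
    refine (Pi.basisFun R (Fin r)).ext fun b => ?_
    simp only [Pi.basisFun_apply, map_sum, LinearMap.sum_apply, f, LinearMap.mk₂_apply, hs, ← pre_comp]
    rw [Finset.sum_eq_single b]
    · rw [show (LinearMap.proj b).comp (LinearMap.single R (fun _ => R) b) = LinearMap.id from
        LinearMap.ext fun x => by simp, pre_id, LinearEquiv.apply_symm_apply]
    · intro c _ hc
      rw [show (LinearMap.proj c).comp (LinearMap.single R (fun _ => R) b) = 0 from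
        LinearMap.ext fun x => by simp [Pi.single_apply, hc], pre_zero, map_zero]
    · simp

omit [IsLocalRing R] [IsNoetherianRing R] in
theorem dualEquiv_natural {ω : Dual.D R} {i : ℤ} (e : T ω R i ≃ₗ[R] R) {a b : ℕ} (f : (Fin a → R) →ₗ[R] (Fin b → R))
    (Ψa : T ω (Fin a → R) i ≃ₗ[R] ((Fin a → R) →ₗ[R] R)) (Ψb : T ω (Fin b → R) i ≃ₗ[R] ((Fin b → R) →ₗ[R] R))
    (ha : ∀ x v, Ψa x v = e (pre ω i (LinearMap.toSpanSingleton R _ v) x))
    (hb : ∀ x v, Ψb x v = e (pre ω i (LinearMap.toSpanSingleton R _ v) x)) (x : T ω (Fin b → R) i) :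
    Ψa (pre ω i f x) = (Ψb x).comp f := by
  refine LinearMap.ext fun v => ?_
  rw [ha, LinearMap.comp_apply, hb, ← pre_comp]
  congr 3
  exact LinearMap.ext_ring (by simp)

/-- `coker (Fᵛ → Kᵛ) ⊗ R/J` computed two ways. -/
theorem length_coker_quot {a b : ℕ} (f : (Fin a → R) →ₗ[R] (Fin b → R)) (J : Ideal R) {E : Type*} [AddCommGroup E]
    [Module R E] (p : ((Fin a → R) →ₗ[R] R) →ₗ[R] E) (hp : Function.Surjective p)
    (hex : Function.Exact (LinearMap.lcomp R R f) p) :
    Module.length R (((Fin a → R) →ₗ[R] (R ⧸ J)) ⧸ LinearMap.range (LinearMap.lcomp R (R ⧸ J) f)) =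
      Module.length R (E ⧸ (J • (⊤ : Submodule R E))) := by
  classical
  let q : ((Fin a → R) →ₗ[R] R) →ₗ[R] ((Fin a → R) →ₗ[R] (R ⧸ J)) := LinearMap.compRight R J.mkQ
  have hlift : ∀ {r : ℕ} (h : (Fin r → R) →ₗ[R] (R ⧸ J)), ∃ h', J.mkQ.comp h' = h := fun h =>
    Module.projective_lifting_property _ h J.mkQ_surjective
  let θ := (LinearMap.range (LinearMap.lcomp R (R ⧸ J) f)).mkQ.comp q
  have hθ : Function.Surjective θ := (Submodule.mkQ_surjective _).comp hlift
  let θ' := (J • (⊤ : Submodule R E)).mkQ.comp p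
  have hθ' : Function.Surjective θ' := (Submodule.mkQ_surjective _).comp hp
  have hk : LinearMap.ker θ = LinearMap.ker θ' := by
    ext h
    simp only [θ, θ', LinearMap.mem_ker, LinearMap.comp_apply, Submodule.mkQ_apply, Submodule.Quotient.mk_eq_zero]
    constructor
    · rintro ⟨h₁, hh⟩
      obtain ⟨h₁', rfl⟩ := hlift h₁
      let d := h - h₁'.comp f
      have hd : ∀ v, d v ∈ J := fun v => by
        rw [← Submodule.Quotient.mk_eq_zero J]
        have := LinearMap.congr_fun hh v
        simp only [q, LinearMap.lcomp_apply, LinearMap.compRight_apply, LinearMap.comp_apply,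
          Submodule.mkQ_apply] at this
        show Submodule.Quotient.mk (h v - h₁' (f v)) = 0
        rw [Submodule.Quotient.mk_sub, this, sub_self]
      have hdd : d = ∑ c, d (Pi.single c 1) • (LinearMap.proj c : (Fin a → R) →ₗ[R] R) := by
        refine (Pi.basisFun R (Fin a)).ext fun c => ?_
        simp [Pi.single_apply, LinearMap.sum_apply]
      have : p h = ∑ c, d (Pi.single c 1) • p (LinearMap.proj c) := by
        rw [show h = d + LinearMap.lcomp R R f h₁' by simp [d, LinearMap.lcomp_apply'], map_add,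
          hex.apply_apply_eq_zero, add_zero]
        conv_lhs => rw [hdd]
        simp
      rw [this]
      exact sum_mem fun c _ => Submodule.smul_mem_smul (hd _) trivial
    · intro hh
      have : p h ∈ (J • (⊤ : Submodule R ((Fin a → R) →ₗ[R] R))).map p := by
        rw [Submodule.map_smul'', Submodule.map_top, LinearMap.range_eq_top.2 hp]; exact hh
      obtain ⟨h₂, h₂J, h₂e⟩ := this
      obtain ⟨h₁', hh₁⟩ := (hex (h - h₂)).1 (by rw [map_sub, h₂e, sub_self])
      have hz : ∀ z ∈ (J • (⊤ : Submodule R ((Fin a → R) →ₗ[R] R))), q z = 0 := fun z hz => by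
        refine Submodule.smul_induction_on hz (fun r hr m _ => ?_) fun x y hx hy => by rw [map_add, hx, hy, add_zero]
        · refine LinearMap.ext fun v => ?_
          simp only [q, LinearMap.compRight_apply, LinearMap.comp_apply, Submodule.mkQ_apply, LinearMap.smul_apply,
            LinearMap.zero_apply, Submodule.Quotient.mk_eq_zero]
          exact Ideal.mul_mem_right _ _ hr
      refine ⟨J.mkQ.comp h₁', ?_⟩
      rw [show h = (h - h₂) + h₂ by abel, map_add, hz _ h₂J, add_zero, ← hh₁]
      rfl
  rw [← (θ.quotKerEquivOfSurjective hθ).length_eq, ← (θ'.quotKerEquivOfSurjective hθ').length_eq, hk]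

theorem main (R : Type u) [CommRing R] [IsRegularLocalRing R] (hdim : ringKrullDim R = 2) (I J : Ideal R)
    (hI : Module.length R (R ⧸ I) < ⊤) (hJ : Module.length R (R ⧸ J) < ⊤) :
    Module.length R (↥I →ₗ[R] (R ⧸ J)) + Module.length R (R ⧸ I.colon J) =
      Module.length R (R ⧸ J) + Module.length R (R ⧸ I) := by
  classical
  haveI : IsDomain R := RegLoc.isDomain R
  haveI := Goren.isGorenstein_of_regular R
  obtain ⟨hω, hn⟩ := DualCx.gorenstein_normalized (A := R) (r := 2) hdim
  set ω := (Dual.inD R R)⟦((2 : ℕ) : ℤ)⟧ with hω'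
  have hQ : IsFiniteLength R (R ⧸ I) := Module.length_ne_top_iff.1 hI.ne
  have hJl := hJ.ne
  -- values on the ring
  have hR : ∀ i : ℤ, i ≠ -2 → Subsingleton (T ω R i) := fun i hi =>
    (shiftT (Dual.inD R R) (Dual.inD R R) 2 i (2 + i) rfl).toEquiv.subsingleton_congr.2
      ((homEquiv (Dual.inD R R) (2 + i)).toEquiv.subsingleton_congr.2 (subsingleton_hd_inD R (by lia)))
  obtain ⟨e⟩ : Nonempty (T ω R (-2) ≃ₗ[R] R) :=
    ⟨(shiftT (Dual.inD R R) (Dual.inD R R) 2 (-2) 0 (by lia)).trans
      ((homEquiv (Dual.inD R R) 0).trans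
      ((DerivedCategory.singleFunctorCompHomologyFunctorIso (ModuleCat.{u} R) 0).app (ModuleCat.of R R)).toLinearEquiv)⟩
  -- presentation
  haveI : Module.Finite R I := Module.Finite.iff_fg.2 (IsNoetherian.noetherian I)
  obtain ⟨m, π, hπ⟩ := Module.Finite.exists_fin' R I
  let v : (Fin m → R) →ₗ[R] (Fin 1 → R) := LinearMap.pi fun _ => I.subtype.comp π
  haveI : Module.Free R (LinearMap.ker π) := free_of_syzygy R hdim.le _ (LinearMap.ker π).subtype v
    (Submodule.subtype_injective _) fun x => by
      simp [v, funext_iff, LinearMap.mem_ker]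
  let K := Fin (Module.finrank R (LinearMap.ker π)) → R
  let bK : K ≃ₗ[R] LinearMap.ker π := (Module.finBasis R _).equivFun.symm
  let f : K →ₗ[R] (Fin m → R) := (LinearMap.ker π).subtype.comp bK.toLinearMap
  have hse : SES f π := ⟨(Submodule.subtype_injective _).comp bK.injective, fun x => by
    simp [f], hπ⟩
  -- rank
  have hrank : m = Module.finrank R (LinearMap.ker π) + 1 := by
    have h1 := Submodule.finrank_quotient_add_finrank (LinearMap.ker π)
    rw [(π.quotKerEquivOfSurjective hπ).finrank_eq, Module.finrank_fin_fun] at h1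
    have h2 : Module.finrank R I = 1 := by
      have h3 := Submodule.finrank_quotient_add_finrank I
      rw [Module.finrank_self] at h3
      have h4 : Module.finrank R (R ⧸ I) = 0 := by
        rw [Module.finrank_eq_zero_iff_isTorsion]
        intro x
        have hne : I ≠ ⊥ := by
          rintro rfl
          have h5 : IsArtinianRing R := by
            obtain ⟨_, h6⟩ := isFiniteLength_iff_isNoetherian_isArtinian.1 hQ
            exact isArtinian_of_linearEquiv (Submodule.quotEquivOfEqBot (⊥ : Ideal R) rfl)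
          have h7 := Ring.krullDimLE_iff.1 (inferInstance : Ring.KrullDimLE 0 R)
          rw [hdim] at h7
          norm_num at h7
        obtain ⟨a, ha, ha0⟩ := Submodule.exists_mem_ne_zero_of_ne_bot hne
        refine ⟨⟨a, mem_nonZeroDivisors_of_ne_zero ha0⟩, ?_⟩
        obtain ⟨c, rfl⟩ := Submodule.Quotient.mk_surjective _ x
        exact (Submodule.Quotient.mk_eq_zero _).2 (Ideal.mul_mem_right _ _ ha)
      omega
    omega
  -- the four term sequence
  let N := R ⧸ J
  have h4 := length_exact₄ (LinearMap.lcomp R N π) (LinearMap.lcomp R N f)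
    (LinearMap.range (LinearMap.lcomp R N f)).mkQ (LinearMap.lcomp_injective_of_surjective π hπ)
    (fun x => ⟨fun hx => ⟨(LinearMap.ker π).liftQ x (fun z hz => by
        obtain ⟨w, rfl⟩ := (hse.exact z).1 hz
        exact LinearMap.congr_fun hx w) ∘ₗ (π.quotKerEquivOfSurjective hπ).symm.toLinearMap, LinearMap.ext fun z => by
          simp only [LinearMap.lcomp_apply, LinearMap.comp_apply, LinearEquiv.coe_coe]
          rw [show (π.quotKerEquivOfSurjective hπ).symm (π z) = Submodule.Quotient.mk z by
            rw [LinearEquiv.symm_apply_eq]; rfl]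
          rfl⟩,
      by rintro ⟨y, rfl⟩; exact LinearMap.ext fun w => by simp [hse.exact.apply_apply_eq_zero]⟩)
    (LinearMap.exact_map_mkQ_range _) (Submodule.mkQ_surjective _)
  have hfree : ∀ r : ℕ, Module.length R ((Fin r → R) →ₗ[R] N) = r * Module.length R N := fun r => by
    rw [((LinearMap.lsum R (fun _ : Fin r => R) R).symm.trans
      (LinearEquiv.piCongrRight fun _ => LinearMap.ringLmapEquivSelf R R N)).length_eq, Module.length_pi_of_fintype]
    simp
  -- the cokernel
  obtain ⟨Ψm, hΨm⟩ := exists_dualEquiv ω e m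
  obtain ⟨Ψk, hΨk⟩ := exists_dualEquiv ω e (Module.finrank R (LinearMap.ker π))
  have hsI := ses_quot I
  have hbij : Function.Bijective (hsI.delta ω (show (-1 : ℤ) + 1 = 0 by rfl)) := by
    refine ⟨(injective_iff_map_eq_zero _).2 fun x hx => ?_, fun y => hsI.exact_right _ y
      (@Subsingleton.elim _ (hR 0 (by lia)) _ _)⟩
    obtain ⟨z, rfl⟩ := hsI.exact_left _ x hx
    rw [@Subsingleton.elim _ (hR (-1) (by lia)) z 0, map_zero]
  have hFree : Subsingleton (T ω (Fin m → R) (-1)) := subsingleton_of_forall_eq 0 fun x => by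
    have hid : (LinearMap.id : (Fin m → R) →ₗ[R] (Fin m → R)) =
        ∑ c, (LinearMap.single R (fun _ => R) c).comp (LinearMap.proj c) := by
      refine LinearMap.ext fun x => funext fun b => ?_
      simp [LinearMap.sum_apply, Finset.sum_apply, Pi.single_apply]
    rw [← pre_id x, hid, pre_sum]
    refine Finset.sum_eq_zero fun c _ => ?_
    rw [pre_comp, @Subsingleton.elim _ (hR (-1) (by lia)) (pre ω (-1) _ x) 0, map_zero]
  let p : (K →ₗ[R] R) →ₗ[R] T ω (R ⧸ I) 0 :=
    (LinearEquiv.ofBijective _ hbij).toLinearMap ∘ₗ hse.delta ω (show (-2 : ℤ) + 1 = -1 by rfl) ∘ₗ Ψk.symm.toLinearMap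
  have hp : Function.Surjective p := by
    intro y
    obtain ⟨z, rfl⟩ := (LinearEquiv.ofBijective _ hbij).surjective y
    obtain ⟨w, rfl⟩ := hse.exact_right (show (-2 : ℤ) + 1 = -1 by rfl) z (@Subsingleton.elim _ hFree _ _)
    exact ⟨Ψk w, by simp [p]⟩
  have hpex : Function.Exact (LinearMap.lcomp R R f) p := by
    intro h
    constructor
    · intro hh
      have h0 : hse.delta ω (show (-2 : ℤ) + 1 = -1 by rfl) (Ψk.symm h) = 0 :=
        (LinearEquiv.ofBijective _ hbij).injective (hh.trans (map_zero _).symm)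
      obtain ⟨y, hy⟩ := hse.exact_left _ _ h0
      refine ⟨Ψm y, ?_⟩
      rw [LinearMap.lcomp_apply', ← dualEquiv_natural e f Ψk Ψm hΨk hΨm, hy, LinearEquiv.apply_symm_apply]
    · rintro ⟨y, rfl⟩
      obtain ⟨y, rfl⟩ := Ψm.surjective y
      simp only [p, LinearMap.lcomp_apply', ← dualEquiv_natural e f Ψk Ψm hΨk hΨm, LinearMap.comp_apply,
        LinearEquiv.coe_coe, LinearEquiv.symm_apply_apply, hse.delta_pre, map_zero]
  obtain ⟨l, g, hg⟩ := Submodule.fg_iff_exists_fin_generating_family.1 (IsNoetherian.noetherian J)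
  have hE := length_coker_quot f J p hp hpex
  conv_rhs at hE => rw [show J = Ideal.span (Set.range g) from hg.symm]
  rw [length_T_quot_smul hω hn _ hQ g] at hE
  -- the annihilator of `J`
  have hcol : I ≤ I.colon (J : Set R) := fun x hx => Submodule.mem_colon.2 fun s _ => I.mul_mem_right s hx
  let ψ : (R ⧸ I) →ₗ[R] (R ⧸ I.colon (J : Set R)) := Submodule.mapQ _ _ LinearMap.id hcol
  have hker : LinearMap.ker (LinearMap.pi fun c => g c • LinearMap.id : (R ⧸ I) →ₗ[R] (Fin l → R ⧸ I)) =
      LinearMap.ker ψ := by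
    ext x
    obtain ⟨c, rfl⟩ := Submodule.Quotient.mk_surjective _ x
    simp only [LinearMap.mem_ker, funext_iff, LinearMap.pi_apply, LinearMap.smul_apply, LinearMap.id_apply,
      Pi.zero_apply, ψ, Submodule.mapQ_apply, Submodule.Quotient.mk_eq_zero, ← Submodule.Quotient.mk_smul]
    constructor
    · intro h
      refine Submodule.mem_colon.2 fun s hs => ?_
      rw [SetLike.mem_coe, ← hg] at hs
      induction hs using Submodule.span_induction with
      | mem s hs => obtain ⟨d, rfl⟩ := hs; simpa [mul_comm] using h d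
      | zero => simp
      | add _ _ _ _ ha hb => rw [smul_add]; exact add_mem ha hb
      | smul a b _ hb => rw [smul_comm]; exact Submodule.smul_mem _ _ hb
    · intro h d
      simpa [mul_comm] using Submodule.mem_colon.1 h (g d) (hg ▸ Submodule.subset_span ⟨d, rfl⟩)
  have hψ : Module.length R (R ⧸ I) = Module.length R (LinearMap.ker ψ) + Module.length R (R ⧸ I.colon (J : Set R)) :=
    Module.length_eq_add_of_exact _ ψ (Submodule.subtype_injective _) (fun y => by
      obtain ⟨c, rfl⟩ := Submodule.Quotient.mk_surjective _ y; exact ⟨Submodule.Quotient.mk c, rfl⟩)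
      (LinearMap.exact_subtype_ker_map ψ)
  rw [hker] at hE
  have hm : (m : ℕ∞) = ↑(Module.finrank R (LinearMap.ker π)) + 1 := by exact_mod_cast hrank
  rw [hE, hfree, hfree, hm] at h4
  push_cast at h4
  rw [add_mul, one_mul] at h4
  rw [hψ]
  generalize Module.length R (↥I →ₗ[R] (R ⧸ J)) = A at *
  generalize Module.length R (LinearMap.ker ψ) = C at *
  have hfin : (Module.finrank R (LinearMap.ker π) : ℕ∞) * Module.length R N ≠ ⊤ :=
    WithTop.mul_ne_top (ENat.natCast_ne_top _) hJl
  have h5 : A = Module.length R N + C := by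
    refine (ENat.add_left_injective_of_ne_top hfin) ?_
    show A + _ = Module.length R N + C + _
    rw [h4]; abel
  rw [h5]
  abel

end Groth.Agent.LenHom
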