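import Groth.Agent.RegDual.Basic
import Mathlib

/-!
# Second syzygies over regular local rings of dimension at most two are free
-/

set_option autoImplicit false

universe u

open IsLocalRing RingTheory.Sequence
open scoped Pointwise

namespace Groth.Agent.LenHom

theorem free_of_syzygy (R : Type u) [CommRing R] [IsRegularLocalRing R] (h2 : ringKrullDim R ≤ 2)
    (M : Type u) [AddCommGroup M] [Module R M] [Module.Finite R M] {ι κ : Type*}
    (i : M →ₗ[R] (ι → R)) (v : (ι → R) →ₗ[R] (κ → R)) (hi : Function.Injective i) (hiv : Function.Exact i v) :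
    Module.Free R M := by
  obtain ⟨d, hd⟩ : ∃ d : ℕ, ringKrullDim R = d :=
    ⟨_, (IsRegularLocalRing.spanFinrank_maximalIdeal (R := R)).symm⟩
  obtain ⟨rs, hlen, hreg, hspan⟩ := Groth.Agent.SerreReg.exists_regular_rsop d R hd
  have hd2 : d ≤ 2 := by rw [hd] at h2; exact_mod_cast h2
  refine Groth.Agent.SerreReg.free_of_regular_rsop d R rs hlen hreg hspan M ?_
  match rs, hlen, hreg with
  | [], _, _ => exact IsWeaklyRegular.nil R M
  | [x], _, hreg =>
    obtain ⟨hx, -⟩ := (isWeaklyRegular_cons_iff R x []).1 hreg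
    refine (isWeaklyRegular_cons_iff M x []).2 ⟨fun a b hab => hi (funext fun k => hx ?_), IsWeaklyRegular.nil R _⟩
    have := congrFun (congrArg i hab) k
    simpa using this
  | [x, y], _, hreg =>
    obtain ⟨hx, hy'⟩ := (isWeaklyRegular_cons_iff R x [y]).1 hreg
    obtain ⟨hy, -⟩ := (isWeaklyRegular_cons_iff (QuotSMulTop x R) y []).1 hy'
    refine (isWeaklyRegular_cons_iff M x [y]).2 ⟨fun a b hab => hi (funext fun k => hx ?_), ?_⟩
    · have := congrFun (congrArg i hab) k
      simpa using this
    refine (isWeaklyRegular_cons_iff (QuotSMulTop x M) y []).2 ⟨?_, IsWeaklyRegular.nil R _⟩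
    rw [isSMulRegular_iff_right_eq_zero_of_smul]
    intro q hq
    obtain ⟨a, rfl⟩ := Submodule.Quotient.mk_surjective _ q
    rw [← Submodule.Quotient.mk_smul, Submodule.Quotient.mk_eq_zero, Submodule.mem_smul_pointwise_iff_exists] at hq
    obtain ⟨b, -, hb⟩ := hq
    have hdiv : ∀ k, ∃ c : R, x * c = i a k := fun k => by
      have h0 : y • (Submodule.Quotient.mk (i a k) : QuotSMulTop x R) = 0 := by
        rw [← Submodule.Quotient.mk_smul, Submodule.Quotient.mk_eq_zero, Submodule.mem_smul_pointwise_iff_exists]
        refine ⟨i b k, trivial, ?_⟩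
        have := congrFun (congrArg i hb) k
        simpa using this
      have h1 := isSMulRegular_iff_right_eq_zero_of_smul.1 hy _ h0
      rw [Submodule.Quotient.mk_eq_zero, Submodule.mem_smul_pointwise_iff_exists] at h1
      obtain ⟨c, -, hc⟩ := h1
      exact ⟨c, by simpa [smul_eq_mul] using hc⟩
    choose c hc using hdiv
    have hxc : i a = x • c := funext fun k => by simp [hc k]
    have hvc : v c = 0 := funext fun k => hx (by
      have := congrFun ((congrArg v hxc).symm.trans (hiv.apply_apply_eq_zero a)) k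
      simpa using this)
    obtain ⟨z, hz⟩ := (hiv c).1 hvc
    rw [Submodule.Quotient.mk_eq_zero, Submodule.mem_smul_pointwise_iff_exists]
    exact ⟨z, trivial, hi (by rw [map_smul, hz, hxc])⟩
  | _ :: _ :: _ :: _, hlen, _ => simp only [List.length_cons] at hlen; omega

end Groth.Agent.LenHom
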